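import Groth.Agent.SmLiftLib.Main
import Groth.Agent.EtShLib.LiftClosed
import Groth.Prelude.Def_BigSite

/-! Base change along a closed immersion is almost cocontinuous on big sites. -/

set_option autoImplicit false
set_option linter.style.haveILetI false
set_option backward.isDefEq.respectTransparency false
set_option backward.isDefEq.respectTransparency.types false
universe u

open CategoryTheory CategoryTheory.Limits AlgebraicGeometry

namespace SmLiftLib

variable {X Y : Scheme.{u}} (f : X ⟶ Y) [IsClosedImmersion f]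
  (P : MorphismProperty Scheme.{u}) [P.IsStableUnderComposition] [P.IsStableUnderBaseChange]

theorem isAlmostCocontinuous_pullback (hopen : ∀ {A B : Scheme.{u}} (j : A ⟶ B) [IsOpenImmersion j], P j)
    [P.IsMultiplicative]
    (hlift : ∀ {Q U W : Scheme.{u}} (q : Q ⟶ U) [IsClosedImmersion q] (g : W ⟶ Q), P g → ∀ w : W,
      ∃ (W₁ : Scheme.{u}) (j : W₁ ⟶ W) (_ : w ∈ Set.range j.base) (U' : Scheme.{u}) (k : U' ⟶ U) (c : W₁ ⟶ U'),
        P k ∧ IsPullback c (j ≫ g) k q) :
    BigSite.IsAlmostCocontinuous (Over.pullback f) (QuotSh.J (Scheme.precoverage P) Y)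
      (QuotSh.J (Scheme.precoverage P) X) := by
  intro V R hR
  obtain ⟨𝒰, h𝒰⟩ := Scheme.exists_cover_of_mem_grothendieckTopology ((GrothendieckTopology.mem_over_iff _ R).1 hR)
  let E := (Over.pullback f).obj V
  let q : E.left ⟶ V.left := pullback.fst V.hom f
  haveI : IsClosedImmersion q := inferInstanceAs (IsClosedImmersion (pullback.fst V.hom f))
  have key : ∀ y : V.left, ∃ (U' : Scheme.{u}) (k : U' ⟶ V.left), P k ∧ y ∈ Set.range k.base ∧
      ((⊥ : Sieve ((Over.pullback f).obj (Over.mk (k ≫ V.hom)))) ∈ (QuotSh.J (Scheme.precoverage P) X) _ ∨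
        R ((Over.pullback f).map (Over.homMk k : Over.mk (k ≫ V.hom) ⟶ V))) := fun y => by
    by_cases hy : y ∈ Set.range q.base
    · obtain ⟨z, rfl⟩ := hy
      obtain ⟨i, w, hw⟩ := 𝒰.exists_eq z
      obtain ⟨W₁, j, ⟨w₁, hw₁⟩, U', k, c, hk, hpb⟩ := hlift q (𝒰.f i) (𝒰.map_prop i) w
      refine ⟨U', k, hk, ⟨c.base w₁, ?_⟩, Or.inr ?_⟩
      · rw [← Scheme.Hom.comp_apply, hpb.w, Scheme.Hom.comp_apply, Scheme.Hom.comp_apply, hw₁, hw]
      · have hR' : R (Over.homMk (𝒰.f i) : Over.mk (𝒰.f i ≫ E.hom) ⟶ E) :=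
          (Sieve.overEquiv_iff R _).1 (h𝒰 _ _ (Presieve.ofArrows.mk i))
        let φ : Over.mk (k ≫ V.hom) ⟶ V := Over.homMk k
        let M : ((Over.pullback f).obj (Over.mk (k ≫ V.hom))).left ⟶ E.left := ((Over.pullback f).map φ).left
        have hMq : M ≫ q = pullback.fst (k ≫ V.hom) f ≫ k := by
          simp [M, q, φ, E]
        let l := hpb.lift (pullback.fst (k ≫ V.hom) f) M hMq.symm
        have hl : l ≫ j ≫ 𝒰.f i = M := hpb.lift_snd _ _ _
        have hlw : (l ≫ j) ≫ 𝒰.f i ≫ E.hom = ((Over.pullback f).obj (Over.mk (k ≫ V.hom))).hom := by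
          rw [Category.assoc, ← Category.assoc j, ← Category.assoc l, hl]
          exact Over.w ((Over.pullback f).map φ)
        have heq : (Over.homMk (l ≫ j) hlw : _ ⟶ Over.mk (𝒰.f i ≫ E.hom)) ≫ Over.homMk (𝒰.f i) =
            (Over.pullback f).map φ := by
          refine Over.OverMorphism.ext ?_
          show (l ≫ j) ≫ 𝒰.f i = M
          rw [Category.assoc]
          exact hl
        show R ((Over.pullback f).map φ)
        rw [← heq]
        exact R.downward_closed hR' _
    · let V₀ : V.left.Opens := ⟨(Set.range q.base)ᶜ, q.isClosedEmbedding.isClosed_range.isOpen_compl⟩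
      refine ⟨V₀, V₀.ι, hopen _, ⟨⟨y, hy⟩, rfl⟩, Or.inl ?_⟩
      haveI : IsEmpty ((Over.pullback f).obj (Over.mk (V₀.ι ≫ V.hom))).left := ⟨fun z => by
        let M := ((Over.pullback f).map (Over.homMk V₀.ι : Over.mk (V₀.ι ≫ V.hom) ⟶ V)).left
        have hMq : M ≫ q = pullback.fst (V₀.ι ≫ V.hom) f ≫ V₀.ι := by simp [M, q, E]
        exact ((pullback.fst (V₀.ι ≫ V.hom) f).base z).2 ⟨M.base z, congrArg (fun t => t.base z) hMq⟩⟩
      rw [GrothendieckTopology.mem_over_iff]
      refine GrothendieckTopology.superset_covering _ (fun _ _ h => ?_) (Scheme.bot_mem_grothendieckTopology (P := P) _)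
      exact h.elim
  choose U' k hk hy hor using key
  let g : ∀ y, Over.mk (k y ≫ V.hom) ⟶ V := fun y => Over.homMk (k y)
  refine ⟨Sieve.ofArrows _ g, ?_, ?_⟩
  · rw [GrothendieckTopology.mem_over_iff]
    refine GrothendieckTopology.superset_covering _ ?_ (Precoverage.generate_mem_toGrothendieck
      ((Scheme.ofArrows_mem_precoverage_iff P).2 ⟨fun y => ⟨y, hy y⟩, hk⟩ :
        Presieve.ofArrows U' k ∈ Scheme.precoverage P V.left))
    rw [Sieve.generate_le_iff]
    rintro _ _ ⟨y⟩
    exact (Sieve.overEquiv_iff _ _).2 (Sieve.ofArrows_mk _ g y)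
  · rintro W m ⟨_, t, _, ⟨y⟩, rfl⟩
    rcases hor y with hbot | hR'
    · refine Or.inl (GrothendieckTopology.superset_covering _ ?_
        ((QuotSh.J (Scheme.precoverage P) X).pullback_stable ((Over.pullback f).map t) hbot))
      intro Z a ha
      exact ha
    · rw [Functor.map_comp]
      exact Or.inr (R.downward_closed hR' _)

theorem isAlmostCocontinuous_etale :
    BigSite.IsAlmostCocontinuous (Over.pullback f) (QuotSh.J Scheme.etalePrecoverage Y)
      (QuotSh.J Scheme.etalePrecoverage X) :=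
  isAlmostCocontinuous_pullback f @Etale (fun j _ => inferInstanceAs (Etale j)) fun q _ g hg w => by
    haveI := hg
    obtain ⟨W₀, hw, U', k, c, hk, hpb⟩ := Groth.Agent.EtShLib.exists_lift_closed q g w
    exact ⟨W₀, W₀.ι, ⟨⟨w, hw⟩, rfl⟩, U', k, c, hk, hpb⟩

theorem isAlmostCocontinuous_smooth :
    BigSite.IsAlmostCocontinuous (Over.pullback f) (QuotSh.J (Scheme.precoverage @Smooth) Y)
      (QuotSh.J (Scheme.precoverage @Smooth) X) :=
  haveI : MorphismProperty.IsMultiplicative @Smooth.{u} :=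
    { id_mem := fun _ => inferInstance, comp_mem := fun a b (_ : Smooth a) (_ : Smooth b) => inferInstance }
  isAlmostCocontinuous_pullback f @Smooth (fun j _ => inferInstanceAs (Smooth j)) fun q _ g hg w => by
    haveI := hg
    obtain ⟨W₁, j, _, hw, U', k, c, hk, hpb⟩ := exists_lift_closed q g w
    exact ⟨W₁, j, hw, U', k, c, hk, hpb⟩

end SmLiftLib
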