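import Groth.Agent.SmLiftLib.Cocont
import Groth.Agent.AlmostCocontLib.Main
import Mathlib.CategoryTheory.Sites.EpiMono
import Mathlib.CategoryTheory.Abelian.Exact
import Mathlib.Algebra.Category.Grp.Abelian
import Mathlib.CategoryTheory.Limits.IsConnected

/-! Direct image along a closed immersion on big sites is exact. -/

set_option autoImplicit false
set_option linter.style.haveILetI false
set_option backward.isDefEq.respectTransparency false
set_option backward.isDefEq.respectTransparency.types false
universe u

open CategoryTheory CategoryTheory.Limits AlgebraicGeometry Opposite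

namespace SmLiftLib

theorem pushBig_preserves {X Y : Scheme.{u}} (f : X ⟶ Y) (K : Precoverage Scheme.{u})
    (hu : BigSite.IsAlmostCocontinuous (Over.pullback f) (QuotSh.J K Y) (QuotSh.J K X)) :
    PreservesColimitsOfShape WalkingParallelPair (BigSite.pushBig K f (Type (u + 1))) ∧
      PreservesColimitsOfShape WalkingSpan (BigSite.pushBig K f (Type (u + 1))) ∧
      PreservesFiniteColimits (BigSite.pushBig K f AddCommGrpCat.{u + 1}) := by
  haveI h1 : PreservesColimitsOfShape WalkingParallelPair (BigSite.pushBig K f (Type (u + 1))) :=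
    AlmostCocontLib.preservesColimitsOfShape.{u + 1} _ hu _
  haveI h2 : PreservesColimitsOfShape WalkingSpan (BigSite.pushBig K f (Type (u + 1))) :=
    AlmostCocontLib.preservesColimitsOfShape.{u + 1} _ hu _
  refine ⟨h1, h2, ?_⟩
  haveI : (BigSite.pushBig K f (Type (u + 1))).PreservesEpimorphisms := inferInstance
  haveI : (BigSite.pushBig K f AddCommGrpCat.{u + 1}).PreservesEpimorphisms := ⟨fun {G G'} φ _ => by
    haveI := (Sheaf.isLocallySurjective_iff_epi' AddCommGrpCat.{u + 1} φ).2 inferInstance
    let ψ := (sheafCompose (QuotSh.J K X) (forget AddCommGrpCat.{u + 1})).map φ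
    haveI : Sheaf.IsLocallySurjective ψ := (Presheaf.isLocallySurjective_iff_whisker_forget _ φ.hom).1 ‹_›
    haveI : Epi ψ := inferInstance
    haveI hE : Sheaf.IsLocallySurjective ((BigSite.pushBig K f (Type (u + 1))).map ψ) :=
      (Sheaf.isLocallySurjective_iff_epi _).2 inferInstance
    refine (Sheaf.isLocallySurjective_iff_epi' AddCommGrpCat.{u + 1} _).1 ?_
    exact (Presheaf.isLocallySurjective_iff_whisker_forget _ _).2 hE⟩
  haveI : (BigSite.pushBig K f AddCommGrpCat.{u + 1}).IsRightAdjoint := (BigSite.bigAdj K f _).isRightAdjoint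
  haveI : PreservesLimitsOfSize.{0, 0} (BigSite.pushBig K f AddCommGrpCat.{u + 1}) :=
    (BigSite.bigAdj K f _).rightAdjoint_preservesLimits
  haveI : PreservesFiniteLimits (BigSite.pushBig K f AddCommGrpCat.{u + 1}) :=
    PreservesLimitsOfSize.preservesFiniteLimits _
  haveI : (BigSite.pushBig K f AddCommGrpCat.{u + 1}).PreservesHomology :=
    Functor.preservesHomology_of_preservesEpis_and_kernels _
  exact (BigSite.pushBig K f AddCommGrpCat.{u + 1}).preservesFiniteColimits_of_preservesHomology

end SmLiftLib
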