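import Groth.Agent.EtShLib.LiftClosed
import Mathlib.AlgebraicGeometry.Morphisms.Smooth
import Mathlib.RingTheory.RingHom.StandardSmooth
import Mathlib.RingTheory.RingHom.LocallyStandardSmooth
import Mathlib.RingTheory.Polynomial.Basic

/-! Smooth morphisms to a closed subscheme lift, locally, to smooth morphisms to the ambient scheme. -/

set_option autoImplicit false
set_option linter.style.haveILetI false
set_option backward.isDefEq.respectTransparency false
universe u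

open CategoryTheory CategoryTheory.Limits AlgebraicGeometry

namespace SmLiftLib

theorem isPushout_of_ker {R S T A : CommRingCat.{u}} {φ : R ⟶ S} (hφ : Function.Surjective φ.hom) {ψ : S ⟶ T}
    {α : R ⟶ A} {β : A ⟶ T} (w : α ≫ β = φ ≫ ψ) (hβ : Function.Surjective β.hom)
    (hker : RingHom.ker β.hom ≤ (RingHom.ker φ.hom).map α.hom) : IsPushout α φ β ψ := by
  have hk : ∀ (s : PushoutCocone α φ), RingHom.ker β.hom ≤ RingHom.ker s.inl.hom := by
    intro s
    refine hker.trans (Ideal.map_le_iff_le_comap.2 ?_)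
    intro r (hr : φ.hom r = 0)
    show s.inl.hom (α.hom r) = 0
    have h2 := congrArg (fun t => t.hom r) s.condition
    exact h2.trans (by show s.inr.hom (φ.hom r) = 0; rw [hr, map_zero])
  refine IsPushout.of_isColimit' ⟨w⟩ (PushoutCocone.IsColimit.mk _
    (fun s => CommRingCat.ofHom (β.hom.liftOfSurjective hβ ⟨s.inl.hom, hk s⟩)) (fun s => ?_) (fun s => ?_) (fun s m h1 _ => ?_))
  · ext a
    exact β.hom.liftOfRightInverse_comp_apply (Function.surjInv hβ) (Function.rightInverse_surjInv hβ) ⟨s.inl.hom, hk s⟩ a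
  · ext x
    obtain ⟨r, rfl⟩ := hφ x
    show (β.hom.liftOfSurjective hβ ⟨s.inl.hom, hk s⟩) (ψ.hom (φ.hom r)) = s.inr.hom (φ.hom r)
    rw [show ψ.hom (φ.hom r) = β.hom (α.hom r) from (congrArg (fun t => t.hom r) w).symm]
    refine (β.hom.liftOfRightInverse_comp_apply (Function.surjInv hβ) (Function.rightInverse_surjInv hβ) ⟨s.inl.hom, hk s⟩ _).trans ?_
    exact congrArg (fun t => t.hom r) s.condition
  · ext x
    obtain ⟨a, rfl⟩ := hβ x
    refine Eq.trans ?_ (β.hom.liftOfRightInverse_comp_apply (Function.surjInv hβ) (Function.rightInverse_surjInv hβ) ⟨s.inl.hom, hk s⟩ a).symm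
    exact congrArg (fun t => t.hom a) h1

theorem exists_lift_ring {R S T : CommRingCat.{u}} (φ : R ⟶ S) (hφ : Function.Surjective φ.hom) (ψ : S ⟶ T)
    (hψ : ψ.hom.IsStandardSmooth) :
    ∃ (A : CommRingCat.{u}) (α : R ⟶ A) (β : A ⟶ T), α.hom.Smooth ∧ IsPushout α φ β ψ := by
  obtain ⟨n, g, hgC, hg⟩ := RingHom.IsStandardSmooth.exists_etale_mvPolynomial hψ
  let φ' : MvPolynomial (Fin n) R →+* MvPolynomial (Fin n) S := MvPolynomial.map φ.hom
  have hφ' : Function.Surjective φ' := MvPolynomial.map_surjective _ hφ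
  let I := RingHom.ker φ'
  let e : MvPolynomial (Fin n) R ⧸ I ≃+* MvPolynomial (Fin n) S := RingHom.quotientKerEquivOfSurjective hφ'
  letI : Algebra (MvPolynomial (Fin n) R) T := (g.comp φ').toAlgebra
  letI : Algebra (MvPolynomial (Fin n) R ⧸ I) T := (g.comp e.toRingHom).toAlgebra
  haveI : IsScalarTower (MvPolynomial (Fin n) R) (MvPolynomial (Fin n) R ⧸ I) T :=
    @IsScalarTower.of_algebraMap_eq (MvPolynomial (Fin n) R) (MvPolynomial (Fin n) R ⧸ I) T _ _ _ _ _ _ fun _ => rfl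
  haveI : Algebra.Etale (MvPolynomial (Fin n) R ⧸ I) T := by
    rw [← RingHom.etale_algebraMap]
    exact RingHom.Etale.respectsIso.2 g e hg
  obtain ⟨A, _, _, hA, β, hβ, hker⟩ := HenselLib.exists_etale_lift (A := MvPolynomial (Fin n) R) I T
  let α : R →+* A := (algebraMap (MvPolynomial (Fin n) R) A).comp MvPolynomial.C
  refine ⟨CommRingCat.of A, CommRingCat.ofHom α, CommRingCat.ofHom β.toRingHom, ?_, ?_⟩
  · haveI : Algebra.Smooth (MvPolynomial (Fin n) R) A := inferInstance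
    exact RingHom.Smooth.comp (RingHom.smooth_algebraMap.2 (⟨inferInstance, inferInstance⟩ : Algebra.Smooth R (MvPolynomial (Fin n) R)))
      (RingHom.smooth_algebraMap.2 this)
  · refine isPushout_of_ker hφ ?_ hβ ?_
    · ext r
      show β (algebraMap _ A (MvPolynomial.C r)) = ψ.hom (φ.hom r)
      rw [β.commutes]
      show g (φ' (MvPolynomial.C r)) = _
      rw [show φ' (MvPolynomial.C r) = MvPolynomial.C (φ.hom r) from MvPolynomial.map_C _ _, ← hgC]
      rfl
    · show RingHom.ker β ≤ _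
      rw [hker, show I = Ideal.map MvPolynomial.C (RingHom.ker φ.hom) from MvPolynomial.ker_map φ.hom, Ideal.map_map]
      exact le_rfl

theorem exists_lift_affine {P U W : Scheme.{u}} [IsAffine P] [IsAffine U] [IsAffine W] (q : P ⟶ U) [IsClosedImmersion q]
    (g : W ⟶ P) (hψ : g.appTop.hom.IsStandardSmooth) :
    ∃ (U' : Scheme.{u}) (k : U' ⟶ U) (c : W ⟶ U'), Smooth k ∧ IsPullback c g k q := by
  obtain ⟨A, α, β, hα, hpo⟩ := exists_lift_ring q.appTop
    (q.app_surjective ⊤ (isAffineOpen_top _)) g.appTop hψ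
  haveI : Smooth (Spec.map α) := (HasRingHomProperty.Spec_iff (P := @Smooth)).2 hα
  refine ⟨Spec A, Spec.map α ≫ U.isoSpec.inv, W.isoSpec.hom ≫ Spec.map β, inferInstance, ?_⟩
  refine (isPullback_SpecMap_of_isPushout _ _ _ _ hpo).of_iso W.isoSpec.symm (Iso.refl _) P.isoSpec.symm U.isoSpec.symm
    ?_ ?_ ?_ ?_
  · simp
  · exact Scheme.isoSpec_inv_naturality g
  · simp
  · exact Scheme.isoSpec_inv_naturality q

theorem exists_lift_closed {P U W : Scheme.{u}} (q : P ⟶ U) [IsClosedImmersion q] (g : W ⟶ P) [Smooth g] (w : W) :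
    ∃ (W₁ : Scheme.{u}) (j : W₁ ⟶ W) (_ : IsOpenImmersion j) (_ : w ∈ Set.range j.base) (U' : Scheme.{u})
      (k : U' ⟶ U) (c : W₁ ⟶ U'), Smooth k ∧ IsPullback c (j ≫ g) k q := by
  obtain ⟨U₀, hU₀, hu, -⟩ := exists_isAffineOpen_mem_and_subset (X := U) (x := q.base (g.base w)) (U := ⊤) trivial
  obtain ⟨W₀, hW₀, hw, hle⟩ := exists_isAffineOpen_mem_and_subset (X := W) (x := w) (U := g ⁻¹ᵁ (q ⁻¹ᵁ U₀)) hu
  haveI : IsAffine U₀.toScheme := hU₀
  haveI : IsAffine W₀.toScheme := hW₀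
  haveI : IsAffine (q ⁻¹ᵁ U₀).toScheme := hU₀.preimage q
  haveI : IsClosedImmersion (q ∣_ U₀) := MorphismProperty.IsStableUnderBaseChange.of_isPullback
    (isPullback_morphismRestrict q U₀).flip inferInstance
  let g₀ : W₀.toScheme ⟶ (q ⁻¹ᵁ U₀).toScheme :=
    IsOpenImmersion.lift (q ⁻¹ᵁ U₀).ι (W₀.ι ≫ g) (by
      rintro _ ⟨x, rfl⟩
      rw [Scheme.Opens.range_ι]
      exact hle x.2)
  have hg₀ : g₀ ≫ (q ⁻¹ᵁ U₀).ι = W₀.ι ≫ g := IsOpenImmersion.lift_fac _ _ _
  haveI : Smooth g₀ := MorphismProperty.of_postcomp (W := @Smooth) (W' := @IsOpenImmersion) g₀ (q ⁻¹ᵁ U₀).ι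
    inferInstance (by rw [hg₀]; infer_instance)
  have hsm : g₀.appTop.hom.Smooth := HasRingHomProperty.appTop @Smooth g₀ inferInstance
  obtain ⟨s, hs, hloc⟩ := RingHom.smooth_iff_locally_isStandardSmooth.1 hsm
  let w₀ : W₀.toScheme := ⟨w, hw⟩
  let p : PrimeSpectrum Γ(W₀.toScheme, ⊤) := W₀.toScheme.isoSpec.hom.base w₀
  obtain ⟨t, ht, hpt⟩ : ∃ t ∈ s, t ∉ p.asIdeal := by
    by_contra! hcon
    exact p.2.ne_top (top_le_iff.1 (hs.ge.trans (Ideal.span_le.2 hcon)))
  let T := CommRingCat.of (Localization.Away t)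
  let l : Spec T ⟶ W₀.toScheme := Spec.map (CommRingCat.ofHom (algebraMap Γ(W₀.toScheme, ⊤) (Localization.Away t))) ≫
    W₀.toScheme.isoSpec.inv
  haveI : IsOpenImmersion (Spec.map (CommRingCat.ofHom (algebraMap Γ(W₀.toScheme, ⊤) (Localization.Away t)))) :=
    IsOpenImmersion.of_isLocalization t
  have hψ : (l ≫ g₀).appTop.hom.IsStandardSmooth := by
    have hinv : W₀.toScheme.isoSpec.inv.appTop = (Scheme.ΓSpecIso Γ(W₀.toScheme, ⊤)).inv := by
      rw [← cancel_epi (Scheme.ΓSpecIso Γ(W₀.toScheme, ⊤)).hom, Iso.hom_inv_id, ← Scheme.toSpecΓ_appTop]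
      show (W₀.toScheme.isoSpec.hom).appTop ≫ _ = _
      rw [← Scheme.Hom.comp_appTop, Iso.inv_hom_id, Scheme.Hom.id_appTop]
    rw [Scheme.Hom.comp_appTop, Scheme.Hom.comp_appTop, hinv]
    have h1 : ((CommRingCat.ofHom ((algebraMap Γ(W₀.toScheme, ⊤) (Localization.Away t)).comp g₀.appTop.hom)) ≫
        (Scheme.ΓSpecIso T).inv).hom.IsStandardSmooth := by
      exact RingHom.isStandardSmooth_respectsIso.1 _ (Scheme.ΓSpecIso T).symm.commRingCatIsoToRingEquiv (hloc t ht)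
    have e3 := (congrArg (g₀.appTop ≫ ·) (Scheme.ΓSpecIso_inv_naturality
      (CommRingCat.ofHom (algebraMap Γ(W₀.toScheme, ⊤) (Localization.Away t)))).symm).trans (Category.assoc _ _ _).symm
    exact e3.symm ▸ h1
  obtain ⟨U', k, c, hk, hpb⟩ := exists_lift_affine (q ∣_ U₀) (l ≫ g₀) hψ
  haveI := hk
  refine ⟨Spec T, l ≫ W₀.ι, inferInstance, ?_, U', k ≫ U₀.ι, c, inferInstance, ?_⟩
  · obtain ⟨z, hz⟩ : p ∈ Set.range (PrimeSpectrum.comap (algebraMap Γ(W₀.toScheme, ⊤) (Localization.Away t))) := by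
      rw [PrimeSpectrum.localization_away_comap_range (Localization.Away t) t]
      exact hpt
    refine ⟨(z : Spec T), ?_⟩
    show W₀.ι.base (W₀.toScheme.isoSpec.inv.base
      ((Spec.map (CommRingCat.ofHom (algebraMap Γ(W₀.toScheme, ⊤) (Localization.Away t)))).base (z : Spec T))) = w
    rw [show (Spec.map (CommRingCat.ofHom (algebraMap Γ(W₀.toScheme, ⊤) (Localization.Away t)))).base (z : Spec T) = p from hz]
    show (W₀.toScheme.isoSpec.hom ≫ W₀.toScheme.isoSpec.inv ≫ W₀.ι).base w₀ = w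
    rw [Iso.hom_inv_id_assoc]
    rfl
  · rw [Category.assoc, ← hg₀, ← Category.assoc]
    exact hpb.paste_vert (isPullback_morphismRestrict q U₀)

end SmLiftLib
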